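import Groth.Agent.SkLib.Basic
import Mathlib.AlgebraicTopology.SimplicialSet.Skeleton
import Mathlib.CategoryTheory.Limits.Types.Colimits

/-!
# Skeleta of simplicial sets
-/

set_option autoImplicit false
set_option backward.isDefEq.respectTransparency false
set_option backward.isDefEq.respectTransparency.types false

universe u

open CategoryTheory CategoryTheory.Limits Opposite Simplicial

namespace Groth.Agent.SkLib

variable (n : ℕ)

lemma exists_rep (U : SimplicialObject.Truncated (Type u) n) (Y : SimplexCategoryᵒᵖ)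
    (z : ((SimplicialObject.Truncated.sk n).obj U).obj Y) :
    ∃ (a : (SimplexCategory.Truncated n)ᵒᵖ) (φ : (SimplexCategory.Truncated.inclusion n).op.obj a ⟶ Y) (x : U.obj a),
      ((SimplicialObject.Truncated.sk n).obj U).map φ (((SimplicialObject.skAdj n).unit.app U).app a x) = z := by
  obtain ⟨A, x, hx⟩ := Types.jointly_surjective _ (isColimitAt U Y) z
  exact ⟨A.left, A.hom, x, hx⟩

theorem hasDimensionLT_sk (U : SimplicialObject.Truncated (Type u) n) :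
    SSet.HasDimensionLT ((SimplicialObject.Truncated.sk n).obj U : SSet.{u}) (n + 1) := by
  refine ⟨fun d hd => Set.eq_univ_of_forall fun z => ?_⟩
  obtain ⟨⟨⟨⟨k⟩, hk⟩⟩, φ, x, hx⟩ := exists_rep n U (op ⦋d⦌) z
  exact ⟨k, lt_of_lt_of_le (Nat.lt_succ_of_le hk) hd, φ.unop, _, hx⟩

variable (X : SSet.{u})

lemma counit_bij {k : ℕ} (hk : k ≤ n) :
    Function.Bijective (((SimplicialObject.skAdj n).counit.app X).app (op ⦋k⦌)) :=
  haveI := isIso_counit_app (n := n) X (op ⦋k⦌) hk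
  (isIso_iff_bijective _).1 inferInstance

theorem counit_injective (d : ℕ) :
    Function.Injective (((SimplicialObject.skAdj n).counit.app X).app (op ⦋d⦌)) := by
  let W : SSet.{u} := (SimplicialObject.Truncated.sk n).obj ((SimplicialObject.truncation n).obj X)
  let ε : W ⟶ X := (SimplicialObject.skAdj n).counit.app X
  haveI : W.HasDimensionLT (n + 1) := hasDimensionLT_sk n ((SimplicialObject.truncation n).obj X)
  have hnd : ∀ {k : ℕ} (y : W.nonDegenerate k), ε.app (op ⦋k⦌) y.1 ∈ X.nonDegenerate k := by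
    rintro k ⟨y, hy⟩
    have hk : k ≤ n := W.dim_le_of_nonDegenerate ⟨y, hy⟩ n
    rw [SSet.mem_nonDegenerate_iff_notMem_degenerate]
    rintro ⟨m, hm, f, x, hx⟩
    obtain ⟨w, rfl⟩ := (counit_bij n X (hm.le.trans hk)).2 x
    refine (W.mem_nonDegenerate_iff_notMem_degenerate y).1 hy ⟨m, hm, f, w, ?_⟩
    refine (counit_bij n X hk).1 ?_
    exact (ε.naturality_apply f.op w).trans hx
  intro z z' h
  obtain ⟨m₁, f₁, _, y₁, rfl⟩ := W.exists_nonDegenerate z
  obtain ⟨m₂, f₂, _, y₂, rfl⟩ := W.exists_nonDegenerate z'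
  have e₁ : ε.app (op ⦋d⦌) (W.map f₁.op y₁.1) = X.map f₁.op (ε.app (op ⦋m₁⦌) y₁.1) := ε.naturality_apply f₁.op y₁.1
  have e₂ : ε.app (op ⦋d⦌) (W.map f₁.op y₁.1) = X.map f₂.op (ε.app (op ⦋m₂⦌) y₂.1) :=
    Eq.trans h (ε.naturality_apply f₂.op y₂.1)
  obtain rfl := X.unique_nonDegenerate_dim _ f₁ ⟨_, hnd y₁⟩ e₁ f₂ ⟨_, hnd y₂⟩ e₂
  have hs := X.unique_nonDegenerate_simplex _ f₁ ⟨_, hnd y₁⟩ e₁ f₂ ⟨_, hnd y₂⟩ e₂
  have hy : y₁.1 = y₂.1 := (counit_bij n X (W.dim_le_of_nonDegenerate y₁ n)).1 (congrArg Subtype.val hs)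
  have hf := X.unique_nonDegenerate_map _ f₁ ⟨_, hnd y₁⟩ e₁ f₂ ⟨_, hnd y₂⟩ e₂
  rw [hf, hy]

theorem mono_and_range :
    Mono ((SimplicialObject.skAdj n).counit.app X) ∧
      SSet.Subcomplex.range ((SimplicialObject.skAdj n).counit.app X) = X.skeleton (n + 1) := by
  refine ⟨?_, le_antisymm ?_ ?_⟩
  · haveI : ∀ Y, Mono (((SimplicialObject.skAdj n).counit.app X).app Y) := fun ⟨⟨d⟩⟩ =>
      (mono_iff_injective _).2 (counit_injective n X d)
    exact NatTrans.mono_of_mono_app _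
  · rintro ⟨⟨d⟩⟩ - ⟨z, rfl⟩
    obtain ⟨⟨⟨⟨k⟩, hk⟩⟩, φ, x, rfl⟩ := exists_rep n ((SimplicialObject.truncation n).obj X) (op ⦋d⦌) z
    have e := ConcreteCategory.congr_hom (sk_leg_counit (n := n) X (op ⟨⦋k⦌, hk⟩) φ) x
    refine (congrArg (· ∈ (X.skeleton (n + 1)).obj (op ⦋d⦌)) e).mpr ?_
    exact (X.skeleton (n + 1)).map φ (X.mem_skeleton x (Nat.lt_succ_of_le hk))
  · simp only [SSet.skeleton, OrderHom.coe_mk, iSup_le_iff]
    intro i x
    rw [SSet.Subcomplex.ofSimplex_le_iff]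
    obtain ⟨w, hw⟩ := (counit_bij n X (Nat.le_of_lt_succ i.isLt)).2 x.1
    exact ⟨w, hw⟩

end Groth.Agent.SkLib
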