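import Groth.Agent.SkLib.Basic
import Mathlib.AlgebraicTopology.DoldKan.Equivalence
import Mathlib.CategoryTheory.Subobject.Limits
import Mathlib.CategoryTheory.Abelian.Basic

/-!
# Skeleta of simplicial objects of abelian categories
-/

set_option autoImplicit false
set_option backward.isDefEq.respectTransparency false
set_option backward.isDefEq.respectTransparency.types false

universe v u

open CategoryTheory CategoryTheory.Limits Opposite Simplicial AlgebraicTopology

namespace Groth.Agent.SkLib

variable {A : Type u} [Category.{v} A] [Abelian A]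

lemma le_of_factors {X : A} {P Q : Subobject X} (h : Q.Factors P.arrow) : P ≤ Q :=
  Subobject.le_of_comm (Subobject.factorThru _ _ h) (Subobject.factorThru_arrow _ _ _)

lemma map_ge_of_lub {X : A} {ι : Type*} {F : ι → Subobject X} {S : Subobject X} (hS : IsLUB (Set.range F) S)
    (i : ι) : F i ≤ S := hS.1 ⟨i, rfl⟩

variable (U : SimplicialObject A) (n : ℕ) (U' : ∀ m : ℕ, Subobject (U.obj (op (SimplexCategory.mk m))))
  (hU' : ∀ m : ℕ, IsLUB (Set.range (fun φ : Σ i : Fin (n + 1), (SimplexCategory.mk m ⟶ SimplexCategory.mk i) =>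
    imageSubobject (U.map φ.2.op))) (U' m))

include hU'

lemma factors_gen {m : ℕ} (i : Fin (n + 1)) (φ : SimplexCategory.mk m ⟶ SimplexCategory.mk i) :
    (U' m).Factors (U.map φ.op) :=
  Subobject.factors_of_le _ ((hU' m).1 ⟨⟨i, φ⟩, rfl⟩)
    (by simpa using imageSubobject_factors_comp_self (U.map φ.op) (𝟙 _))

theorem gen_stable (m m' : ℕ) (ψ : SimplexCategory.mk m' ⟶ SimplexCategory.mk m) :
    imageSubobject ((U' m).arrow ≫ U.map ψ.op) ≤ U' m' := by
  have h : U' m ≤ (Subobject.pullback (U.map ψ.op)).obj (U' m') := by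
    refine (hU' m).2 ?_
    rintro _ ⟨⟨i, φ⟩, rfl⟩
    have hf : (U' m').Factors (U.map φ.op ≫ U.map ψ.op) := by
      rw [← U.map_comp, ← op_comp]; exact factors_gen U n U' hU' i (ψ ≫ φ)
    exact imageSubobject_le _ ((Subobject.isPullback (U.map ψ.op) (U' m')).lift
      (Subobject.factorThru _ _ hf) (U.map φ.op) (Subobject.factorThru_arrow _ _ _))
      ((Subobject.isPullback (U.map ψ.op) (U' m')).lift_snd _ _ _)
  refine imageSubobject_le _ (Subobject.ofLE _ _ h ≫ Subobject.pullbackπ (U.map ψ.op) (U' m')) ?_
  rw [Category.assoc, (Subobject.isPullback (U.map ψ.op) (U' m')).w, Subobject.ofLE_arrow_assoc]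

theorem gen_eq_top (i : ℕ) (hi : i ≤ n) : U' i = ⊤ := by
  refine top_unique ?_
  have := factors_gen U n U' hU' ⟨i, Nat.lt_succ_of_le hi⟩ (𝟙 _)
  rw [op_id, U.map_id] at this
  exact le_of_factors (by simpa using Subobject.factors_of_factors_right (⊤ : Subobject _).arrow this)

theorem gen_inf_normalized (m : ℕ) (hm : n < m) :
    U' m ⊓ NormalizedMooreComplex.objX U m = ⊥ := by
  have h : U' m ≤ kernelSubobject (DoldKan.PInfty.f m : U.obj (op ⦋m⦌) ⟶ _) := by
    refine (hU' m).2 ?_
    rintro _ ⟨⟨i, φ⟩, rfl⟩
    refine imageSubobject_le _ (factorThruKernelSubobject _ _ ?_) (factorThruKernelSubobject_comp_arrow _ _ _)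
    refine DoldKan.degeneracy_comp_PInfty U m φ fun hφ => ?_
    have := SimplexCategory.len_le_of_mono φ
    exact absurd (lt_of_le_of_lt (Nat.le_of_lt_succ i.isLt) hm) (not_lt.2 this)
  refine bot_unique (le_of_factors ?_)
  rw [Subobject.bot_factors_iff_zero]
  have h1 : (U' m ⊓ NormalizedMooreComplex.objX U m).arrow ≫ DoldKan.PInfty.f m = 0 := by
    rw [← Subobject.ofLE_arrow (inf_le_left.trans h), Category.assoc, kernelSubobject_arrow_comp, comp_zero]
  have h2 := HomologicalComplex.congr_hom (DoldKan.inclusionOfMooreComplexMap_comp_PInfty U) m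
  rw [HomologicalComplex.comp_f, inclusionOfMooreComplexMap_f] at h2
  rw [← Subobject.ofLE_arrow (inf_le_right : U' m ⊓ NormalizedMooreComplex.objX U m ≤ _)] at h1 ⊢
  rw [Category.assoc] at h1
  exact (congrArg (_ ≫ ·) h2).symm.trans h1

omit hU'

variable {n} [∀ F : (SimplexCategory.Truncated n)ᵒᵖ ⥤ A, (SimplexCategory.Truncated.inclusion n).op.HasLeftKanExtension F]

omit U in
theorem sk_objX_eq_bot (V : SimplicialObject.Truncated A n) (m : ℕ) (hm : n < m) :
    NormalizedMooreComplex.objX ((SimplicialObject.Truncated.sk n).obj V) m = ⊥ := by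
  let W := (SimplicialObject.Truncated.sk n).obj V
  have h : (DoldKan.PInfty.f m : W.obj (op ⦋m⦌) ⟶ _) = 0 := by
    refine sk_hom_ext V fun a φ => ?_
    rw [comp_zero, Category.assoc]
    obtain ⟨⟨⟨k⟩, hk⟩⟩ := a
    have := DoldKan.degeneracy_comp_PInfty W m φ.unop fun hφ => by
      have h' : m ≤ k := SimplexCategory.len_le_of_mono φ.unop
      exact absurd (lt_of_le_of_lt hk hm) (not_lt.2 h')
    exact (congrArg (_ ≫ ·) this).trans comp_zero
  refine bot_unique (le_of_factors ?_)
  rw [Subobject.bot_factors_iff_zero]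
  have h2 := HomologicalComplex.congr_hom (DoldKan.inclusionOfMooreComplexMap_comp_PInfty W) m
  rw [HomologicalComplex.comp_f, inclusionOfMooreComplexMap_f] at h2
  exact h2.symm.trans ((congrArg (_ ≫ ·) h).trans comp_zero)

instance mono_counit_app (Y : SimplexCategoryᵒᵖ) :
    Mono (((SimplicialObject.skAdj n).counit.app U).app Y) := by
  let W := (SimplicialObject.Truncated.sk n).obj ((SimplicialObject.truncation n).obj U)
  let ε : W ⟶ U := (SimplicialObject.skAdj n).counit.app U
  haveI : ∀ m, Mono (((normalizedMooreComplex A).map ε).f m) := fun m => by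
    rcases le_or_gt m n with hm | hm
    · haveI := isIso_counit_app (n := n) U (op ⦋m⦌) hm
      have e : ((normalizedMooreComplex A).map ε).f m ≫ (NormalizedMooreComplex.objX U m).arrow =
          (NormalizedMooreComplex.objX W m).arrow ≫ ε.app (op ⦋m⦌) := by
        simp only [normalizedMooreComplex_map, NormalizedMooreComplex.map_f]
        exact Subobject.factorThru_arrow _ _ _
      haveI : Mono (((normalizedMooreComplex A).map ε).f m ≫ (NormalizedMooreComplex.objX U m).arrow) := by
        rw [e]; exact mono_comp _ _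
      exact mono_of_mono _ (NormalizedMooreComplex.objX U m).arrow
    · have hz : IsZero ((NormalizedMooreComplex.objX
          ((SimplicialObject.Truncated.sk n).obj ((SimplicialObject.truncation n).obj U)) m : A)) := by
        rw [sk_objX_eq_bot ((SimplicialObject.truncation n).obj U) m hm]
        exact (isZero_zero A).of_iso Subobject.botCoeIsoZero
      exact ⟨fun g g' _ => hz.eq_of_tgt g g'⟩
  haveI : Mono ((normalizedMooreComplex A).map ε) := HomologicalComplex.mono_of_mono_f _ this
  haveI : (normalizedMooreComplex A).Faithful :=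
    inferInstanceAs (CategoryTheory.Abelian.DoldKan.equivalence (A := A)).functor.Faithful
  haveI : Mono ε := (normalizedMooreComplex A).mono_of_mono_map inferInstance
  exact inferInstanceAs (Mono (ε.app Y))

include hU'

theorem image_counit (m : ℕ) :
    imageSubobject (((SimplicialObject.skAdj n).counit.app U).app (op ⦋m⦌)) = U' m := by
  refine le_antisymm ?_ ((hU' m).2 ?_)
  · let V := (SimplicialObject.truncation n).obj U
    let s : Cocone (CostructuredArrow.proj (SimplexCategory.Truncated.inclusion n).op (op ⦋m⦌) ⋙ V) :=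
      { pt := (U' m : A)
        ι :=
          { app := fun B => Subobject.factorThru (U' m) (U.map B.hom)
              (factors_gen U n U' hU' ⟨B.left.unop.obj.len, Nat.lt_succ_of_le B.left.unop.2⟩ B.hom.unop)
            naturality := fun B B' g => by
              rw [← cancel_mono (U' m).arrow]
              show (U.map _ ≫ Subobject.factorThru (U' m) (U.map B'.hom) _) ≫ _ =
                (Subobject.factorThru (U' m) (U.map B.hom) _ ≫ 𝟙 _) ≫ _
              rw [Category.comp_id, Category.assoc, Subobject.factorThru_arrow, Subobject.factorThru_arrow,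
                ← U.map_comp]
              exact congrArg U.map (CostructuredArrow.w g) } }
    refine imageSubobject_le _ ((isColimitAt V (op ⦋m⦌)).desc s) ?_
    refine sk_hom_ext V fun a φ => ?_
    refine (((Category.assoc _ _ _).symm.trans (congrArg (· ≫ (U' m).arrow)
      ((isColimitAt V (op ⦋m⦌)).fac s (CostructuredArrow.mk φ)))).trans
        (Subobject.factorThru_arrow _ (U.map φ) (factors_gen U n U' hU' ⟨a.unop.obj.len, Nat.lt_succ_of_le a.unop.2⟩ φ.unop))).trans (sk_leg_counit (n := n) U a φ).symm
  · rintro _ ⟨⟨i, φ⟩, rfl⟩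
    let a : (SimplexCategory.Truncated n)ᵒᵖ := op ⟨⦋i.val⦌, Nat.le_of_lt_succ i.isLt⟩
    have e := sk_leg_counit (n := n) U a (Y := op ⦋m⦌) φ.op
    refine imageSubobject_le _
      ((((SimplicialObject.skAdj n).unit.app ((SimplicialObject.truncation n).obj U)).app a ≫
        ((SimplicialObject.Truncated.sk n).obj ((SimplicialObject.truncation n).obj U)).map φ.op) ≫
          factorThruImageSubobject _) ?_
    rw [Category.assoc, imageSubobject_arrow_comp]
    exact e

end Groth.Agent.SkLib
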