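import Groth.Agent.TruncKan.Basic
import Mathlib.AlgebraicTopology.SimplicialObject.Basic
import Mathlib.CategoryTheory.Functor.KanExtension.Adjunction

/-!
# Skeleta of truncated simplicial objects
-/

set_option autoImplicit false
set_option backward.isDefEq.respectTransparency false
set_option backward.isDefEq.respectTransparency.types false

universe v u

open CategoryTheory CategoryTheory.Limits Opposite Simplicial

namespace Groth.Agent.SkLib

variable {C : Type u} [Category.{v} C] [HasFiniteColimits C] {n : ℕ}
  [∀ F : (SimplexCategory.Truncated n)ᵒᵖ ⥤ C, (SimplexCategory.Truncated.inclusion n).op.HasLeftKanExtension F]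

/-- The colimit cocones of a skeleton. -/
noncomputable def isColimitAt (U : SimplicialObject.Truncated C n) (Y : SimplexCategoryᵒᵖ) :
    IsColimit ((Functor.LeftExtension.mk ((SimplicialObject.Truncated.sk n).obj U)
      ((SimplicialObject.skAdj n).unit.app U)).coconeAt Y) :=
  haveI := Groth.Agent.TruncKan.hasPointwiseLeft n U
  haveI : ((SimplicialObject.Truncated.sk n).obj U).IsLeftKanExtension ((SimplicialObject.skAdj n).unit.app U) := by
    have e : (SimplicialObject.skAdj (C := C) n).unit = (SimplexCategory.Truncated.inclusion n).op.lanUnit :=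
      Functor.lanAdjunction_unit _ _
    rw [e]
    infer_instance
  Functor.isPointwiseLeftKanExtensionOfIsLeftKanExtension _ ((SimplicialObject.skAdj n).unit.app U) Y

lemma sk_hom_ext (U : SimplicialObject.Truncated C n) {Y : SimplexCategoryᵒᵖ} {S : C}
    {g h : ((SimplicialObject.Truncated.sk n).obj U).obj Y ⟶ S}
    (w : ∀ (a : (SimplexCategory.Truncated n)ᵒᵖ) (φ : (SimplexCategory.Truncated.inclusion n).op.obj a ⟶ Y),
      (((SimplicialObject.skAdj n).unit.app U).app a ≫ ((SimplicialObject.Truncated.sk n).obj U).map φ) ≫ g =
        (((SimplicialObject.skAdj n).unit.app U).app a ≫ ((SimplicialObject.Truncated.sk n).obj U).map φ) ≫ h) :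
    g = h :=
  (isColimitAt U Y).hom_ext fun A => w A.left A.hom

omit [HasFiniteColimits C] in
lemma sk_leg_counit (X : SimplicialObject C) {Y : SimplexCategoryᵒᵖ} (a : (SimplexCategory.Truncated n)ᵒᵖ)
    (φ : (SimplexCategory.Truncated.inclusion n).op.obj a ⟶ Y) :
    (((SimplicialObject.skAdj n).unit.app ((SimplicialObject.truncation n).obj X)).app a ≫
      ((SimplicialObject.Truncated.sk n).obj ((SimplicialObject.truncation n).obj X)).map φ) ≫
        ((SimplicialObject.skAdj n).counit.app X).app Y = X.map φ := by
  rw [Category.assoc]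
  erw [((SimplicialObject.skAdj n).counit.app X).naturality φ]
  rw [← Category.assoc]
  have := congrArg (fun k => k.app a) ((SimplicialObject.skAdj (C := C) n).right_triangle_components X)
  simp only [NatTrans.comp_app, NatTrans.id_app] at this
  exact (congrArg (· ≫ X.map φ) this).trans (Category.id_comp _)

instance isIso_unit (U : SimplicialObject.Truncated C n) : IsIso ((SimplicialObject.skAdj n).unit.app U) := by
  haveI := fun F : (SimplexCategory.Truncated n)ᵒᵖ ⥤ C => Groth.Agent.TruncKan.hasPointwiseLeft n F
  haveI : IsIso ((SimplicialObject.skAdj n).unit : _ ⟶ (SimplicialObject.Truncated.sk (C := C) n) ⋙ SimplicialObject.truncation n) :=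
    Functor.coreflective' (SimplexCategory.Truncated.inclusion n).op
  infer_instance

lemma isIso_counit_app (X : SimplicialObject C) (Y : SimplexCategoryᵒᵖ) (h : Y.unop.len ≤ n) :
    IsIso (((SimplicialObject.skAdj n).counit.app X).app Y) := by
  let a : (SimplexCategory.Truncated n)ᵒᵖ := op ⟨Y.unop, h⟩
  have := congrArg (fun k => k.app a) ((SimplicialObject.skAdj (C := C) n).right_triangle_components X)
  simp only [NatTrans.comp_app, NatTrans.id_app] at this
  exact IsIso.of_isIso_fac_left this

end Groth.Agent.SkLib
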